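import Cfsg.Agent.H321.SpecEven.Frame

/-!
# The frame for `PSL_n(2^k)`, `PSU_n(2^k)`, `n = 2 ^ t + 1 ≥ 5` (helper321): the version without `he`

`CandW`, `IsoW`, `IsoW.frame`: as `Cand`, `Iso`, `Iso.frame`, without the hypothesis `e = false → 3 ≤ t`
(so `PSU_5(2^k)`, S3462, is included).
-/

set_option autoImplicit false
set_option linter.unusedSectionVars false

namespace Cfsg.Agent.H321.SpecEven

open Subgroup Cfsg.Agent.H414.Adj Cfsg.Agent.H414.Vasiliev Cfsg.Agent.H414.Comp Cfsg.Agent.H414.Spec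
  Cfsg.Agent.H403 Cfsg.Agent.H403.NumTop
/-- What is known on a nonabelian composition factor `S` of a group isospectral to `PSL_n(q)` (`e = true`) or
`PSU_n(q)` (`e = false`), `q = 2 ^ k`, `n = 2 ^ t + 1`. -/
structure CandW (e : Bool) (t k : ℕ) (S : Type*) [Group S] : Prop where
  ht : 2 ≤ t
  hk : 1 ≤ k
  /-- the primes -/
  prime_ok : ∀ r : ℕ, r.Prime → r ≠ 2 → r ∣ Nat.card S → 1 ≤ od e (2 ^ k) r ∧ od e (2 ^ k) r ≤ 2 ^ t + 1
  /-- no elements of order `2 ^ (t + 2)` and `2 ^ (t + 1) * r`, `r` odd -/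
  two : ∀ g : S, 2 ^ (t + 1) ∣ orderOf g → orderOf g = 2 ^ (t + 1)
  /-- elements of order `2 ^ a * r`, `r` a prime of index `i > n / 2`: `2 ^ (a - 1) < n - i` (or `a = 0`) -/
  two_mul : ∀ (a r : ℕ), r.Prime → 2 ^ t + 1 < 2 * od e (2 ^ k) r → 1 ≤ a → (∃ g : S, orderOf g = 2 ^ a * r) →
    2 ^ (a - 1) + od e (2 ^ k) r < 2 ^ t + 1
  /-- primes `r`, `s` of indices `i`, `j` with `i + j > n`, not dividing each other, are not adjacent -/
  adj : ∀ r s : ℕ, r.Prime → s.Prime → 2 ≤ od e (2 ^ k) r → 2 ≤ od e (2 ^ k) s → 2 ^ t + 1 < od e (2 ^ k) r + od e (2 ^ k) s →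
    ¬ od e (2 ^ k) r ∣ od e (2 ^ k) s → ¬ od e (2 ^ k) s ∣ od e (2 ^ k) r → ¬ ∃ g : S, orderOf g = r * s
  /-- elements of order divisible by a prime of index `n` -/
  top : ∀ (g : S) (r : ℕ), r.Prime → od e (2 ^ k) r = 2 ^ t + 1 → r ∣ orderOf g →
    orderOf g * dd e (2 ^ t + 1) (2 ^ k) * AA e 1 (2 ^ k) ∣ AA e (2 ^ t + 1) (2 ^ k)
  /-- elements of order divisible by a prime of index `n - 1` -/
  pred : ∀ (g : S) (r : ℕ), r.Prime → od e (2 ^ k) r = 2 ^ t → r ∣ orderOf g →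
    orderOf g * dd e (2 ^ t + 1) (2 ^ k) ∣ AA e (2 ^ t) (2 ^ k)
  /-- existence of elements; all primes of index `n` and `n - 1` divide `|S|` with their full power -/
  ex_top : ∀ c : ℕ, (∀ r : ℕ, r.Prime → r ∣ c → od e (2 ^ k) r = 2 ^ t + 1) → c ∣ AA e (2 ^ t + 1) (2 ^ k) →
    ∃ g : S, orderOf g = c
  ex_pred : ∀ c : ℕ, (∀ r : ℕ, r.Prime → r ∣ c → od e (2 ^ k) r = 2 ^ t) → c ∣ AA e (2 ^ t) (2 ^ k) →
    ∃ g : S, orderOf g = c
  /-- of two primes of a coclique (with at least three primes) of `L` one divides `|S|` -/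
  coc : ∀ ρ : Finset ℕ, (∀ r ∈ ρ, r.Prime ∧ 2 ^ t + 1 < 2 * od e (2 ^ k) r ∧ od e (2 ^ k) r ≤ 2 ^ t + 1) →
    (∀ r ∈ ρ, ∀ s ∈ ρ, od e (2 ^ k) r = od e (2 ^ k) s → r = s) → 3 ≤ ρ.card →
    ∀ r ∈ ρ, ∀ s ∈ ρ, r ≠ s → r ∣ Nat.card S ∨ s ∣ Nat.card S

namespace CandW

variable {e : Bool} {t k : ℕ} {S : Type*} [Group S]

/-- Transport along an isomorphism. -/
theorem of_mulEquiv {T : Type*} [Group T] (f : S ≃* T) (h : CandW e t k S) : CandW e t k T where
  ht := h.ht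
  hk := h.hk
  prime_ok r hr h2 hd := h.prime_ok r hr h2 (by rwa [Nat.card_congr f.toEquiv])
  two g hg := by
    have := h.two (f.symm g)
    rw [MulEquiv.orderOf_eq] at this
    exact this hg
  two_mul a r hr h1 h2 h3 := h.two_mul a r hr h1 h2 (by
    obtain ⟨g, hg⟩ := h3
    exact ⟨f.symm g, by rw [MulEquiv.orderOf_eq, hg]⟩)
  adj r s hr hs h1 h2 h3 h4 h5 h6 := h.adj r s hr hs h1 h2 h3 h4 h5 (by
    obtain ⟨g, hg⟩ := h6
    exact ⟨f.symm g, by rw [MulEquiv.orderOf_eq, hg]⟩)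
  top g r hr h1 h2 := by
    have := h.top (f.symm g) r hr h1
    rw [MulEquiv.orderOf_eq] at this
    exact this h2
  pred g r hr h1 h2 := by
    have := h.pred (f.symm g) r hr h1
    rw [MulEquiv.orderOf_eq] at this
    exact this h2
  ex_top c h1 h2 := by
    obtain ⟨g, hg⟩ := h.ex_top c h1 h2
    exact ⟨f g, by rw [MulEquiv.orderOf_eq, hg]⟩
  ex_pred c h1 h2 := by
    obtain ⟨g, hg⟩ := h.ex_pred c h1 h2
    exact ⟨f g, by rw [MulEquiv.orderOf_eq, hg]⟩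
  coc ρ h1 h2 h3 r hr s hs hrs := by
    have := h.coc ρ h1 h2 h3 r hr s hs hrs
    rwa [Nat.card_congr f.toEquiv] at this

end CandW


/-- `Cand` without the hypothesis `he`. -/
theorem Cand.toW {e : Bool} {t k : ℕ} {S : Type*} [Group S] (h : Cand e t k S) : CandW e t k S where
  ht := h.ht
  hk := h.hk
  prime_ok := h.prime_ok
  two := h.two
  two_mul := h.two_mul
  adj := h.adj
  top := h.top
  pred := h.pred
  ex_top := h.ex_top
  ex_pred := h.ex_pred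
  coc := h.coc

theorem CandW.toCand {e : Bool} {t k : ℕ} {S : Type*} [Group S] (h : CandW e t k S) (he : e = false → 3 ≤ t) :
    Cand e t k S where
  ht := h.ht
  hk := h.hk
  he := he
  prime_ok := h.prime_ok
  two := h.two
  two_mul := h.two_mul
  adj := h.adj
  top := h.top
  pred := h.pred
  ex_top := h.ex_top
  ex_pred := h.ex_pred
  coc := h.coc

section Facts

variable {F : Type*} [Field F] [Fintype F] {e : Bool} {t k : ℕ} {L : Type*} [Group L] [Finite L]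

/-- the hypothesis on `G` -/
structure IsoW (e : Bool) (t k : ℕ) (F : Type*) [Field F] [Fintype F] (L : Type*) [Group L] (G : Type*) [Group G] : Prop where
  hL : IsL L e (2 ^ t + 1) (2 ^ k) F
  hF : Fintype.card F = (2 ^ k) ^ (cond e 0 1 + 1)
  ht : 2 ≤ t
  hk : 1 ≤ k
  spec : Set.range (orderOf : G → ℕ) = Set.range (orderOf : L → ℕ)

variable {G : Type*} [Group G] [Finite G]

/-- `G` is not solvable -/
theorem IsoW.not_solvable (h : IsoW e t k F L G) : ¬ Group.IsSolvable G := by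
  classical
  intro hG
  obtain ⟨r, hr, hr1⟩ := exists_top (e := e) (k := k) h.hk h.ht
  obtain ⟨s, hs, hs1⟩ := exists_pred (e := e) (k := k) h.hk h.ht
  have hρ := coc_of_spec h.spec (coc_two h.hL h.hF h.ht h.hk hr hs hr1 hs1).1
  have hr2 := ne_two_of_od h.hk hr1 (by omega)
  have h2t : 2 ^ 2 ≤ 2 ^ t := Nat.pow_le_pow_right (by norm_num) h.ht
  have hs2 := ne_two_of_od h.hk hs1 (by omega)
  have hrs : r ≠ s := by
    rintro rfl
    omega
  have : Group.IsSolvable ↥(⊤ : Subgroup G) := Group.isSolvable_of_isSolvable_injective (Subgroup.subtype_injective _)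
  refine Cfsg.Agent.H395.Coclique.coclique Nat.prime_two hr hs hr2.symm hs2.symm hrs
    (hρ.2 2 (by simp) r (by simp) hr2.symm) (hρ.2 2 (by simp) s (by simp) hs2.symm) (hρ.2 r (by simp) s (by simp) hrs)
    ⊤ this ?_ ?_ (hρ.1 s (by simp)).2
  · rw [Subgroup.card_top]; exact (hρ.1 2 (by simp)).2
  · rw [Subgroup.card_top]; exact (hρ.1 r (by simp)).2

/-- **The frame.** -/
theorem IsoW.frame (h : IsoW e t k F L G) (K : Subgroup G) [K.Normal] (hK : Group.IsSolvable ↥K)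
    (hKmax : ∀ M : Subgroup G, M.Normal → Group.IsSolvable ↥M → M ≤ K) :
    ∃ S : Subgroup (G ⧸ K), IsComp S ∧ S.Normal ∧ centralizer (S : Set (G ⧸ K)) = ⊥ ∧ CandW e t k ↥S ∧
      (∀ p : ℕ, p.Prime → (od e (2 ^ k) p = 2 ^ t + 1 ∨ od e (2 ^ k) p = 2 ^ t) → ¬ p ∣ Nat.card ↥K ∧ ¬ p ∣ S.index) := by
  classical
  obtain ⟨r, hr, hr1⟩ := exists_top (e := e) (k := k) h.hk h.ht
  obtain ⟨s, hs, hs1⟩ := exists_pred (e := e) (k := k) h.hk h.ht
  have h2t : 2 ^ 2 ≤ 2 ^ t := Nat.pow_le_pow_right (by norm_num) h.ht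
  have hr2 := ne_two_of_od h.hk hr1 (by omega)
  have hs2 := ne_two_of_od h.hk hs1 (by omega)
  have hcoc : ∀ r s : ℕ, r.Prime → s.Prime → od e (2 ^ k) r = 2 ^ t + 1 → od e (2 ^ k) s = 2 ^ t →
      Coc G {2, r, s} ∧ Coc G {2, s, r} := by
    intro r s hr hs hr1 hs1
    obtain ⟨h1, h2⟩ := coc_two h.hL h.hF h.ht h.hk hr hs hr1 hs1
    exact ⟨coc_of_spec h.spec h1, coc_of_spec h.spec h2⟩
  have hρ := (hcoc r s hr hs hr1 hs1).1
  obtain ⟨S, hS, hSn, hSc, hScoc, -⟩ := Cfsg.Agent.H414.Vasiliev.main h.not_solvable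
    ⟨r, hr, hr2, (hρ.1 r (by simp)).2, hρ.2 2 (by simp) r (by simp) hr2.symm⟩ K hK hKmax
  have hbig : ∀ p : ℕ, p.Prime → (od e (2 ^ k) p = 2 ^ t + 1 ∨ od e (2 ^ k) p = 2 ^ t) →
      ¬ p ∣ Nat.card ↥K ∧ ¬ p ∣ S.index := by
    rintro p hp (hp1 | hp1)
    · refine not_dvd K hK S hS hSc (ne_two_of_od h.hk hp1 (by omega)) hs2 ?_ (hcoc p s hp hs hp1 hs1).1
      rintro rfl
      omega
    · refine not_dvd K hK S hS hSc (ne_two_of_od h.hk hp1 (by omega)) hr2 ?_ (hcoc r p hr hp hr1 hp1).2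
      rintro rfl
      omega
  refine ⟨S, hS, hSn, hSc, ?_, hbig⟩
  have hlin := h.hL.lin (E := AlgebraicClosure F) h.hF (by omega)
  have hq2 : Even (2 ^ k) := (Nat.even_pow).2 ⟨even_two, by have := h.hk; omega⟩
  -- orders
  have hS_L : ∀ x : ↥S, ∃ g : L, orderOf g = orderOf x := by
    intro x
    obtain ⟨g, hg⟩ := exists_lift K (x : G ⧸ K)
    exact (exists_iff h.spec _).1 ⟨g, by rw [hg, Subgroup.orderOf_coe]⟩
  have hdvd_card : ∀ p : ℕ, p.Prime → p ∣ Nat.card ↥S → ∃ g : L, orderOf g = p := by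
    intro p hp hpS
    have := Fact.mk hp
    obtain ⟨x, hx⟩ := exists_prime_orderOf_dvd_card' p hpS
    obtain ⟨g, hg⟩ := hS_L x
    exact ⟨g, by rw [hg, hx]⟩
  have hex : ∀ i : ℕ, (i = 2 ^ t + 1 ∨ i = 2 ^ t) → ∀ c : ℕ, (∀ r : ℕ, r.Prime → r ∣ c → od e (2 ^ k) r = i) →
      c ∣ AA e i (2 ^ k) → ∃ g : ↥S, orderOf g = c := by
    intro i hi c h1 h2
    obtain ⟨g, hg⟩ := exists_elt h.hL h.hF h.ht (by omega) (by omega) h1 h2
    obtain ⟨x, hx⟩ := (exists_iff h.spec _).2 ⟨g, hg⟩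
    have h3 : ∀ p : ℕ, p.Prime → p ∣ c → ¬ p ∣ Nat.card ↥K ∧ ¬ p ∣ S.index := by
      intro p hp hpc
      refine hbig p hp ?_
      rcases hi with hi | hi
      · left; rw [h1 p hp hpc, hi]
      · right; rw [h1 p hp hpc, hi]
    obtain ⟨y, hy⟩ := exists_socle_elt K S (x := x)
      (by rw [hx]; exact Nat.coprime_of_dvd fun p hp h4 h5 => (h3 p hp h4).1 h5)
      (by rw [hx]; exact Nat.coprime_of_dvd fun p hp h4 h5 => (h3 p hp h4).2 h5)
    exact ⟨y, by rw [hy, hx]⟩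
  refine
    { ht := h.ht
      hk := h.hk
      prime_ok := fun p hp hp2 hpS => ?_
      two := fun g hg => ?_
      two_mul := fun a p hp h1 ha hg => ?_
      adj := fun p q hp hq h1 h2 h3 h4 h5 hg => ?_
      top := fun g p hp h1 h2 => ?_
      pred := fun g p hp h1 h2 => ?_
      ex_top := hex _ (Or.inl rfl)
      ex_pred := hex _ (Or.inr rfl)
      coc := fun ρ h1 h2 h3 p hp q hq hpq => ?_ }
  · refine hlin.ord_le h.hF (by omega) hp (fun hd => hp2 ?_) (hdvd_card p hp hpS)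
    exact (Nat.prime_dvd_prime_iff_eq hp Nat.prime_two).1 (hp.dvd_of_dvd_pow hd)
  · obtain ⟨c, hc⟩ := hg
    have hc0 : c ≠ 0 := by
      rintro rfl
      rw [mul_zero] at hc
      exact (orderOf_pos g).ne' hc
    by_cases hc1 : c = 1
    · rw [hc, hc1, mul_one]
    · exfalso
      obtain ⟨p, hp, d, rfl⟩ := Nat.exists_prime_and_dvd hc1
      have hd0 : d ≠ 0 := by rintro rfl; exact hc0 (mul_zero _)
      have h1 : orderOf (g ^ d) = 2 ^ (t + 1) * p := by
        rw [orderOf_pow_of_dvd hd0 (by rw [hc, ← mul_assoc]; exact dvd_mul_left _ _), hc, ← mul_assoc,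
          Nat.mul_div_cancel _ (Nat.pos_of_ne_zero hd0)]
      obtain ⟨x, hx⟩ := hS_L (g ^ d)
      rw [h1] at hx
      rcases Nat.Prime.eq_two_or_odd' hp with rfl | hpo
      · have h2 := Cfsg.Agent.H402.Uni.pow_lt hlin h.hF (by omega) Nat.prime_two rfl h.hk (a := t + 2) (by omega)
          ⟨x, by rw [hx]; ring⟩
        rw [show t + 2 - 1 = t + 1 by omega, pow_succ] at h2
        omega
      · exact two_top hlin h.hF hq2 (by omega) le_rfl hpo hp.one_lt.ne' ⟨x, hx⟩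
  · obtain ⟨g, hg⟩ := hg
    obtain ⟨x, hx⟩ := hS_L g
    have h3 := orderOf_dvd_natCard g
    have hp2 : p ≠ 2 := by
      rintro rfl
      have h4 : od e (2 ^ k) 2 = 0 ∨ 1 ≤ od e (2 ^ k) 2 := by omega
      rcases h4 with h4 | h4
      · omega
      · exact ne_two_of_od h.hk rfl h4 rfl
    have h5 := hlin.ord_le h.hF (by omega) hp
      (fun hd => hp2 ((Nat.prime_dvd_prime_iff_eq hp Nat.prime_two).1 (hp.dvd_of_dvd_pow hd)))
      (hdvd_card p hp ((hg ▸ Dvd.intro_left _ rfl : p ∣ orderOf g).trans h3))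
    exact two_mul_lt hlin h.hF hq2 (by omega) hp rfl h1 h5.2 ha ⟨x, by rw [hx, hg]⟩
  · obtain ⟨g, hg⟩ := hg
    obtain ⟨x, hx⟩ := hS_L g
    exact not_adj_big h.hL h.hF h.ht hp hq h1 h2 h3 h4 h5 ⟨x, by rw [hx, hg]⟩
  · obtain ⟨x, hx⟩ := hS_L g
    rw [← hx] at h2 ⊢
    exact top_dvd hlin h.hF (by omega) hp h1 (orderOf_pos x) h2
  · obtain ⟨x, hx⟩ := hS_L g
    rw [← hx] at h2 ⊢
    exact pred_dvd hlin h.hF (by omega) hp (h1.trans (by omega)) (orderOf_pos x) h2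
  · have hρ : Coc G ρ := by
      apply coc_of_spec h.spec
      constructor
      · intro x hx
        obtain ⟨a1, a2, a3⟩ := h1 x hx
        refine ⟨a1, ?_⟩
        obtain ⟨g, hg⟩ := exists_prime_elt h.hL h.hF h.ht a1 (by omega) a3
        rw [← hg]
        exact orderOf_dvd_natCard g
      · intro x hx y hy hxy
        obtain ⟨a1, a2, a3⟩ := h1 x hx
        obtain ⟨b1, b2, b3⟩ := h1 y hy
        have hne : od e (2 ^ k) x ≠ od e (2 ^ k) y := fun h => hxy (h2 x hx y hy h)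
        have aux : ∀ {i j : ℕ}, i ≠ j → 2 ^ t + 1 < 2 * i → 2 ^ t + 1 < 2 * j → i ≤ 2 ^ t + 1 → j ≤ 2 ^ t + 1 → ¬ i ∣ j := by
          rintro i j hij c1 c2 c3 c4 ⟨m, hm⟩
          rcases (by omega : m = 0 ∨ m = 1 ∨ 2 ≤ m) with rfl | rfl | hm2
          · omega
          · omega
          · have : i * 2 ≤ i * m := Nat.mul_le_mul_left i hm2
            omega
        exact not_adj_big h.hL h.hF h.ht a1 b1 (by omega) (by omega) (by omega) (aux hne a2 b2 a3 b3)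
          (aux hne.symm b2 a2 b3 a3)
    have key : ∀ x ∈ ρ, ¬ x ∣ Nat.card ↥K * S.index → x ∣ Nat.card ↥S := by
      intro x hx hxn
      obtain ⟨a1, a2⟩ := hρ.1 x hx
      have h4 : Nat.card G = Nat.card ↥S * (Nat.card ↥K * S.index) := by
        rw [Subgroup.card_eq_card_quotient_mul_card_subgroup K, ← Subgroup.card_mul_index S]
        ring
      rw [h4] at a2
      exact (a1.dvd_mul.1 a2).resolve_right hxn
    by_cases h5 : p ∣ Nat.card ↥K * S.index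
    · right
      apply key q hq
      intro h6
      exact hpq (hScoc ρ hρ h3 p hp q hq h5 h6)
    · exact Or.inl (key p hp h5)

/-- `Iso` without `he` -/
theorem Iso.toW (h : Iso e t k F L G) : IsoW e t k F L G := ⟨h.hL, h.hF, h.ht, h.hk, h.spec⟩

end Facts

end Cfsg.Agent.H321.SpecEven
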