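import Cfsg.Agent.H321.SpecEven.FrameW
import Cfsg.Agent.H356.OddCand
import Cfsg.Agent.H343.ExcFar

/-!
# Odd characteristic, `t ≥ 3` (helper321): helper356's classical rows and helper343's exceptional rows
-/

set_option autoImplicit false
set_option linter.unusedSectionVars false

namespace Cfsg.Agent.H321.SpecEven

open Cfsg

/-- a group of Lie type in odd characteristic with `Cand e t k S`, `t ≥ 3`, is of Lie type in characteristic 2 as well, or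
the Tits group -/
theorem odd_char_two {e : Bool} {t k : ℕ} {S : Type*} [Group S] [Finite S] (ht : 3 ≤ t) (h : Cand e t k S) {p : ℕ}
    (hp : p.Prime) (hp2 : p ≠ 2) (hS : IsLieTypeChar p S) : IsLieTypeChar 2 S ∨ Lie.IsoTits S := by
  by_contra hno
  refine Cfsg.Agent.H356.OddCand.odd_char_of ht h hp hp2 hS fun hexc j hj g hg hfar => ?_
  refine hno (Cfsg.Agent.H343.ExcFar.exc_far (S := S) ?_ hg hfar hj)
  rcases hexc with ⟨F, iF, iT, -, h | h | h | h | h⟩ | ⟨K, iK, iT, -, q, hq, ⟨h1, h2⟩ | ⟨h1, h2⟩⟩ | ⟨-, h⟩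
  · exact Or.inl ⟨F, iF, iT, h.1, h.2⟩
  · exact Or.inr (Or.inl ⟨F, iF, iT, h⟩)
  · exact Or.inr (Or.inr (Or.inl ⟨F, iF, iT, h⟩))
  · exact Or.inr (Or.inr (Or.inr (Or.inl ⟨F, iF, iT, h⟩)))
  · exact Or.inr (Or.inr (Or.inr (Or.inr (Or.inl ⟨F, iF, iT, h⟩))))
  · exact Or.inr (Or.inr (Or.inr (Or.inr (Or.inr (Or.inl ⟨K, iK, iT, q, hq, h1, h2⟩)))))
  · exact Or.inr (Or.inr (Or.inr (Or.inr (Or.inr (Or.inr (Or.inl ⟨K, iK, iT, q, hq, h1, h2⟩))))))
  · exact Or.inr (Or.inr (Or.inr (Or.inr (Or.inr (Or.inr (Or.inr (Or.inr (Or.inl h))))))))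

end Cfsg.Agent.H321.SpecEven
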